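import Cfsg.Agent.Forms.UnitaryOrder
import Cfsg.Agent.S2364

/-!
An `r`-element of a unitary group commuting with a non-trivial unipotent element of order `p`
is trivial unless `r` divides the order of a smaller unitary group.
-/

set_option autoImplicit false

namespace CfsgLib.USection

open Module Submodule CfsgLib.Forms

variable {F V : Type*} [Field F] [Fintype F] [AddCommGroup V] [Module F V] [Finite V]
  [FiniteDimensional F V] {σ : F →+* F} {q r e l : ℕ}

section

variable (hF : Fintype.card F = q ^ 2) (hσ : ∀ x, σ x = x ^ q) (hσ2 : ∀ x, σ (σ x) = x)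
  (hr : r.Prime) (hrq : ¬ r ∣ q) (hno : ∀ i, 1 ≤ i → i ≤ l → ¬ r ∣ u q i)

include hF hσ hσ2 hr hrq hno in
/-- An `r`-element isometry of a small nondegenerate Hermitian space is trivial. -/
theorem eq_one_of_herm_small (Φ : V →ₛₗ[σ] V →ₗ[F] F) (hS : Φ.IsSymm)
    (hsep : ∀ x, (∀ y, Φ x y = 0) → x = 0) (hdim : finrank F V ≤ l) (T : Module.End F V)
    (hT : T ^ (r ^ e) = 1) (hiso : ∀ x y, Φ (T x) (T y) = Φ x y) : T = 1 := by
  obtain ⟨t, rfl⟩ := IsUnit.of_pow_eq_one hT (pow_ne_zero _ hr.ne_zero)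
  let g : isoGroup Φ := ⟨LinearMap.GeneralLinearGroup.toLinearEquiv t, hiso⟩
  have hpow : g ^ (r ^ e) = 1 := by
    apply Subtype.ext
    have h1 : t ^ (r ^ e) = 1 := Units.ext (by simpa using hT)
    show LinearMap.GeneralLinearGroup.toLinearEquiv t ^ (r ^ e) = 1
    rw [show LinearMap.GeneralLinearGroup.toLinearEquiv t =
      (LinearMap.GeneralLinearGroup.generalLinearEquiv F V) t from rfl, ← map_pow, h1, map_one]
  haveI := finite_isoGroup Φ
  have hcop : (r ^ e).Coprime (Nat.card (isoGroup Φ)) := by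
    refine Nat.Coprime.pow_left e ((Nat.Prime.coprime_iff_not_dvd hr).2 ?_)
    rw [card_isoGroup_herm hF hσ hσ2 Φ hS hsep rfl]
    intro hd
    rcases hr.dvd_mul.1 hd with h | h
    · exact hrq (hr.dvd_of_dvd_pow h)
    · obtain ⟨i, hi, h2⟩ := (hr.prime.dvd_finsetProd_iff _).1 h
      rw [Finset.mem_range] at hi
      exact hno (i + 1) (by omega) (by omega) h2
  have h1 : g = 1 := orderOf_eq_one_iff.1
    (Nat.eq_one_of_dvd_coprimes hcop (orderOf_dvd_of_pow_eq_one hpow) (orderOf_dvd_natCard g))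
  refine LinearMap.ext fun x => ?_
  exact congrArg (fun k : isoGroup Φ => k.1 x) h1

include hF hσ hσ2 hr hrq hno in
/-- An `r`-element acts trivially on a small Hermitian section. -/
theorem sub_mem_of_section (B : Module.End F V) (hB : B ^ (r ^ e) = 1) (P Q : Submodule F V)
    (hPQ : P ≤ Q) (hP : ∀ x ∈ P, B x ∈ P) (hQ : ∀ x ∈ Q, B x ∈ Q)
    (Φ : V →ₛₗ[σ] V →ₗ[F] F) (hS : ∀ x y, σ (Φ x y) = Φ y x)
    (hperp : ∀ x ∈ P, ∀ y ∈ Q, Φ x y = 0)
    (hrad : ∀ x ∈ Q, (∀ y ∈ Q, Φ x y = 0) → x ∈ P)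
    (hiso : ∀ x ∈ Q, ∀ y ∈ Q, Φ (B x) (B y) = Φ x y)
    (hdim : finrank F Q ≤ finrank F P + l) : ∀ x ∈ Q, B x - x ∈ P := by
  obtain ⟨C, hPC⟩ := P.exists_isCompl
  set π := C.projectionOnto P hPC.symm with hπ
  have hπsub : ∀ x, x - (π x : V) ∈ P := by
    intro x
    rw [← Submodule.projectionOnto_apply_eq_zero_iff hPC.symm, map_sub,
      Submodule.projectionOnto_apply_left, sub_self]
  have hπQ : ∀ x ∈ Q, (π x : V) ∈ Q := by
    intro x hx
    have := Q.sub_mem hx (hPQ (hπsub x))
    simpa using this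
  let D : Submodule F V := C ⊓ Q
  let T : Module.End F D :=
    ((C.subtype ∘ₗ π) ∘ₗ B).restrict (p := D) (q := D)
      fun x hx => ⟨(π (B x)).2, hπQ _ (hQ x hx.2)⟩
  have hT : ∀ c : D, B (c : V) - (T c : V) ∈ P := fun c => hπsub _
  have hTn : ∀ (n : ℕ) (c : D), (B ^ n) (c : V) - ((T ^ n) c : V) ∈ P := by
    intro n
    induction n with
    | zero => intro c; simp
    | succ n ih =>
      intro c
      have h1 := hP _ (ih c)
      have h2 := hT ((T ^ n) c)
      rw [map_sub] at h1
      have h3 := P.add_mem h1 h2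
      rw [pow_succ', Module.End.mul_apply, pow_succ', Module.End.mul_apply]
      simpa using h3
  have hdisj : ∀ x ∈ D, x ∈ P → x = 0 := fun x hx hx' =>
    Submodule.disjoint_def.1 hPC.disjoint x hx' hx.1
  have hTe : T ^ (r ^ e) = 1 := by
    refine LinearMap.ext fun c => Subtype.ext ?_
    have h := hTn (r ^ e) c
    rw [hB] at h
    exact (sub_eq_zero.1 (hdisj _ (D.sub_mem c.2 ((T ^ r ^ e) c).2) h)).symm
  have hzero : ∀ p ∈ P, ∀ y ∈ Q, Φ y p = 0 := fun p hp y hy => by
    rw [← hS p y, hperp p hp y hy, map_zero]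
  have hΦT : ∀ c c' : D, restrictForm Φ D (T c) (T c') = restrictForm Φ D c c' := by
    intro c c'
    rw [restrictForm_apply, restrictForm_apply, ← hiso c.1 c.2.2 c'.1 c'.2.2]
    obtain ⟨a, ha, ea⟩ : ∃ a ∈ P, (T c : V) = B c.1 + a :=
      ⟨_, P.neg_mem (hT c), by abel⟩
    obtain ⟨b, hb, eb⟩ : ∃ b ∈ P, (T c' : V) = B c'.1 + b :=
      ⟨_, P.neg_mem (hT c'), by abel⟩
    rw [ea, eb]
    simp only [map_add, LinearMap.add_apply,
      hzero b hb _ (hQ _ c.2.2), hperp a ha _ (hQ _ c'.2.2), hperp a ha b (hPQ hb), add_zero]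
  have hdec : ∀ x ∈ Q, ∃ p ∈ P, ∃ c : D, x = p + (c : V) := fun x hx =>
    ⟨_, hπsub x, ⟨_, (π x).2, hπQ x hx⟩, by simp⟩
  have hsep : ∀ c : D, (∀ y, restrictForm Φ D c y = 0) → c = 0 := by
    intro c hc
    refine Subtype.ext (hdisj _ c.2 (hrad _ c.2.2 fun y hy => ?_))
    obtain ⟨p, hp, d, rfl⟩ := hdec y hy
    rw [map_add, hzero p hp _ c.2.2, zero_add]
    exact hc d
  have hDdim : finrank F D ≤ l := by
    have h1 := Submodule.finrank_sup_add_finrank_inf_eq P D
    have h2 : P ⊓ D = ⊥ :=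
      eq_bot_iff.2 fun x hx => (Submodule.mem_bot F).2 (hdisj x hx.2 hx.1)
    have h3 : P ⊔ D ≤ Q := sup_le hPQ inf_le_right
    have h4 := Submodule.finrank_mono h3
    rw [h2, finrank_bot] at h1
    omega
  have hT1 := eq_one_of_herm_small hF hσ hσ2 hr hrq hno (restrictForm Φ D)
    ⟨fun x y => hS _ _⟩ hsep hDdim T hTe hΦT
  intro x hx
  obtain ⟨p, hp, c, rfl⟩ := hdec x hx
  have h := hT c
  rw [hT1] at h
  have := P.add_mem (P.sub_mem (hP p hp) hp) h
  convert this using 1
  rw [map_add]
  simp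
  abel

end

/-- The orthogonal of a subspace. -/
def orth (Φ : V →ₛₗ[σ] V →ₗ[F] F) (S : Submodule F V) : Submodule F V where
  carrier := {y | ∀ s ∈ S, Φ s y = 0}
  add_mem' ha hb s hs := by rw [map_add, ha s hs, hb s hs, add_zero]
  zero_mem' s _ := map_zero _
  smul_mem' c y hy s hs := by rw [map_smul, hy s hs, smul_zero]

omit [Fintype F] [Finite V] in
theorem mem_of_perp_orth (Φ : V →ₛₗ[σ] V →ₗ[F] F) (hσ2 : ∀ x, σ (σ x) = x)
    (hS : ∀ x y, σ (Φ x y) = Φ y x) (hsep : ∀ x, (∀ y, Φ x y = 0) → x = 0) (S : Submodule F V)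
    {x : V} (hx : ∀ y ∈ orth Φ S, Φ x y = 0) : x ∈ S := by
  by_contra hxS
  obtain ⟨f, hfx, hf⟩ := Submodule.exists_dual_map_eq_bot_of_notMem hxS inferInstance
  obtain ⟨v, hv⟩ := CfsgLib.Forms.exists_rep Φ hσ2 hsep f
  apply hfx
  have hmem : v ∈ orth Φ S := fun s hs => by
    have h1 : f s = 0 := by
      have h2 : f s ∈ S.map f := ⟨s, hs, rfl⟩
      rw [hf] at h2
      exact (Submodule.mem_bot F).1 h2
    rw [← hS v s, hv, h1, map_zero]
  rw [← hv, ← hS x v, hx v hmem, map_zero]

omit [Fintype F] [Finite V] in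
theorem finrank_le_orth_add (Φ : V →ₛₗ[σ] V →ₗ[F] F) (S : Submodule F V) :
    finrank F V ≤ finrank F (orth Φ S) + finrank F S := by
  let b := Module.finBasis F S
  let L : V →ₗ[F] (Fin (finrank F S) → F) := LinearMap.pi fun i => Φ (b i : V)
  have hk : LinearMap.ker L ≤ orth Φ S := by
    intro y hy s hs
    have hz : ∀ i, Φ (b i : V) y = 0 := fun i => congrFun hy i
    have h1 : (∑ i, b.repr ⟨s, hs⟩ i • (b i : V)) = s := by
      have := congrArg S.subtype (b.sum_repr ⟨s, hs⟩)
      simpa only [map_sum, map_smul, Submodule.subtype_apply] using this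
    rw [← h1]
    simp [hz]
  have h2 := L.finrank_range_add_finrank_ker
  have h3 := Submodule.finrank_le (LinearMap.range L)
  have h4 := Submodule.finrank_mono hk
  rw [Module.finrank_fin_fun] at h3
  omega

variable {p : ℕ} [Fact p.Prime]

/-- The main lemma. -/
theorem eq_one_of_commute_unipotent [CharP F p] (hF : Fintype.card F = q ^ 2)
    (hσ : ∀ x, σ x = x ^ q) (hσ2 : ∀ x, σ (σ x) = x) (hr : r.Prime) (hrp : r ≠ p)
    (hrq : ¬ r ∣ q) {m : ℕ} (hm : 4 ≤ m) (hV : finrank F V = m)
    (hno : ∀ i, 1 ≤ i → i ≤ m - 2 → ¬ r ∣ u q i)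
    (h : V →ₛₗ[σ] V →ₗ[F] F) (hS : ∀ x y, σ (h x y) = h y x)
    (hsep : ∀ x, (∀ y, h x y = 0) → x = 0)
    (A B : Module.End F V) (hA : A ^ p = 1) (hA1 : A ≠ 1) (hAh : ∀ x y, h (A x) (A y) = h x y)
    (hB : B ^ (r ^ e) = 1) (hBh : ∀ x y, h (B x) (B y) = h x y) (hAB : Commute A B) : B = 1 := by
  haveI : Nontrivial V := Module.nontrivial_of_finrank_pos (R := F) (by omega)
  haveI : CharP (Module.End F V) p := charP_of_injective_algebraMap
    (algebraMap F (Module.End F V)).injective p
  set N := A - 1 with hN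
  have hNp : N ^ p = 0 := by
    rw [hN, sub_pow_char_of_commute p (Commute.one_right A), hA, one_pow, sub_self]
  have hN0 : N ≠ 0 := sub_ne_zero.2 hA1
  have hNB : Commute N B := hAB.sub_left (Commute.one_left B)
  have hAsurj : Function.Surjective A := fun y => ⟨(A ^ (p - 1)) y, by
    rw [← Module.End.mul_apply, ← pow_succ', Nat.sub_add_cancel (Fact.out : p.Prime).one_le, hA]
    rfl⟩
  have hWperp : ∀ w, N w = 0 → ∀ y, h w (N y) = 0 := by
    intro w hw y
    have hw' : A w = w := sub_eq_zero.1 hw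
    have h1 := hAh w y
    rw [hw'] at h1
    show h w (A y - y) = 0
    rw [map_sub, h1, sub_self]
  have hperpW : ∀ x, (∀ y, h x (N y) = 0) → N x = 0 := by
    intro x hx
    apply hsep
    intro z
    obtain ⟨y, rfl⟩ := hAsurj z
    show h (A x - x) (A y) = 0
    have h2 : h x (A y) - h x y = 0 := by rw [← map_sub]; exact hx y
    rw [map_sub, LinearMap.sub_apply, hAh, ← neg_sub, h2, neg_zero]
  classical
  -- the last non-zero power
  obtain ⟨j, hj1, hj0, hjtop⟩ : ∃ j, 1 ≤ j ∧ N ^ j ≠ 0 ∧ N ^ (j + 1) = 0 := by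
    have hk : ∃ k, N ^ k = 0 := ⟨p, hNp⟩
    have hk2 : 2 ≤ Nat.find hk := by
      by_contra hlt
      have h0 := Nat.find_spec hk
      rcases Nat.lt_or_ge (Nat.find hk) 1 with h1 | h1
      · rw [show Nat.find hk = 0 by omega, pow_zero] at h0
        exact one_ne_zero h0
      · rw [show Nat.find hk = 1 by omega, pow_one] at h0
        exact hN0 h0
    obtain ⟨i, hi⟩ : ∃ i, Nat.find hk = i + 2 := ⟨Nat.find hk - 2, by omega⟩
    exact ⟨i + 1, by omega, Nat.find_min hk (by omega), hi ▸ Nat.find_spec hk⟩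
  set S := LinearMap.range (N ^ j) with hSdef
  have hSi : ∀ x ∈ S, B x ∈ S := by
    rintro _ ⟨y, rfl⟩
    exact ⟨B y, by rw [← Module.End.mul_apply, (hNB.pow_left j).eq, Module.End.mul_apply]⟩
  have hSker : ∀ s ∈ S, N s = 0 := by
    rintro _ ⟨y, rfl⟩
    rw [← Module.End.mul_apply, ← pow_succ', hjtop]
    rfl
  have hSrange : ∀ s ∈ S, ∃ z, s = N z := by
    rintro _ ⟨y, rfl⟩
    exact ⟨(N ^ (j - 1)) y, by rw [← Module.End.mul_apply, ← pow_succ', Nat.sub_add_cancel hj1]⟩
  have hSiso : S ≤ orth h S := by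
    intro y hy s hs
    obtain ⟨z, rfl⟩ := hSrange y hy
    exact hWperp s (hSker s hs) z
  have hS0 : 1 ≤ finrank F S := Submodule.one_le_finrank_iff.2 fun hbot => hj0 (by
    rw [← LinearMap.range_eq_bot]; exact hbot)
  -- `B` fixes `S` pointwise
  have hfix : ∀ s ∈ S, B s = s := by
    by_cases hj : j = 1
    · -- `N ^ 2 = 0`: a form on `V / ker N`
      subst hj
      obtain ⟨y₀, hy₀⟩ : ∃ y, σ y ≠ y := by
        by_contra hc
        push Not at hc
        exact CfsgLib.Forms.conj_ne_id hF hσ (RingHom.ext hc)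
      set c := y₀ - σ y₀ with hc
      have hc0 : c ≠ 0 := sub_ne_zero.2 (Ne.symm hy₀)
      have hcσ : σ c = -c := by rw [hc, map_sub, hσ2, neg_sub]
      have hN2 : ∀ x, N (N x) = 0 := fun x => hSker _ ⟨x, by rw [pow_one]⟩
      have hskew : ∀ x y, h x (N y) = -h (N x) y := by
        intro x y
        have e1 : A x = N x + x := by rw [hN]; simp
        have e2 : A y = N y + y := by rw [hN]; simp
        have h1 := hAh x y
        rw [e1, e2] at h1
        simp only [map_add, LinearMap.add_apply, hWperp (N x) (hN2 x) y, zero_add] at h1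
        linear_combination h1
      let Ψ : V →ₛₗ[σ] V →ₗ[F] F :=
        { toFun := fun x => c • h (N x)
          map_add' := fun x y => by rw [map_add, map_add, smul_add]
          map_smul' := fun a x => by rw [map_smul, LinearMap.map_smulₛₗ, smul_comm] }
      have hΨ : ∀ x y, Ψ x y = c * h (N x) y := fun _ _ => rfl
      have hdim : finrank F (⊤ : Submodule F V) ≤ finrank F (LinearMap.ker N) + (m - 2) := by
        have h1 := N.finrank_range_add_finrank_ker
        have h2 : LinearMap.range N ≤ LinearMap.ker N := by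
          rintro _ ⟨x, rfl⟩; exact hN2 x
        have h3 := Submodule.finrank_mono h2
        rw [finrank_top]
        omega
      have hsec := sub_mem_of_section (l := m - 2) hF hσ hσ2 hr hrq hno B hB (LinearMap.ker N) ⊤
        le_top
        (fun x hx => by
          rw [LinearMap.mem_ker] at hx ⊢
          rw [← Module.End.mul_apply, hNB.eq, Module.End.mul_apply, hx, map_zero])
        (fun _ _ => trivial) Ψ
        (fun x y => by rw [hΨ, hΨ, map_mul, hcσ, hS, hskew]; ring)
        (fun x hx y _ => by rw [hΨ, LinearMap.mem_ker.1 hx]; simp)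
        (fun x _ hx => LinearMap.mem_ker.2 (hsep _ fun y => by
          have := hx y trivial
          rw [hΨ] at this
          exact (mul_eq_zero.1 this).resolve_left hc0))
        (fun x _ y _ => by
          rw [hΨ, hΨ, ← Module.End.mul_apply, hNB.eq, Module.End.mul_apply, hBh])
        hdim
      rintro _ ⟨y, rfl⟩
      have h1 := LinearMap.mem_ker.1 (hsec y trivial)
      rw [map_sub, sub_eq_zero, ← Module.End.mul_apply, hNB.eq, Module.End.mul_apply] at h1
      simpa using h1
    · -- `S` is small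
      have h2 : 2 ≤ j := by omega
      have hS3 : 3 * finrank F S ≤ m := by
        have step : ∀ i, i ≤ j →
            finrank F (LinearMap.range (N ^ (i + 1))) + finrank F S ≤
              finrank F (LinearMap.range (N ^ i)) := by
          intro i hi
          have h1 := (N.domRestrict (LinearMap.range (N ^ i))).finrank_range_add_finrank_ker
          have hr1 : LinearMap.range (N.domRestrict (LinearMap.range (N ^ i))) =
              LinearMap.range (N ^ (i + 1)) := by
            rw [LinearMap.range_domRestrict, ← LinearMap.range_comp, pow_succ']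
            rfl
          let f : S →ₗ[F] LinearMap.ker (N.domRestrict (LinearMap.range (N ^ i))) :=
            { toFun := fun s => ⟨⟨s.1, by
                obtain ⟨y, hy⟩ := s.2
                refine ⟨(N ^ (j - i)) y, ?_⟩
                rw [← Module.End.mul_apply, ← pow_add, Nat.add_sub_cancel' hi, hy]⟩,
                hSker _ s.2⟩
              map_add' := fun _ _ => rfl
              map_smul' := fun _ _ => rfl }
          have h3 := LinearMap.finrank_le_finrank_of_injective (f := f) fun a b hab =>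
            Subtype.ext (congrArg (fun z => ((z : LinearMap.range (N ^ i)) : V))
              (congrArg Subtype.val hab))
          rw [hr1] at h1
          omega
        have s0 := step 0 (by omega)
        have s1 := step 1 (by omega)
        have s2 := step 2 (by omega)
        have h0 := Submodule.finrank_le (LinearMap.range (N ^ 0))
        rw [hV] at h0
        simp only [Nat.reduceAdd] at s0 s1 s2
        omega
      have hk : ∀ i, 1 ≤ i → i ≤ finrank F S → ¬ r ∣ Fintype.card F ^ i - 1 := by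
        intro i hi hi' hd
        apply hno (2 * i) (by omega) (by omega)
        rw [CfsgLib.Forms.u, if_pos ⟨i, two_mul i⟩, pow_mul, ← hF]
        exact hd
      have hrF : ¬ r ∣ Fintype.card F := by rw [hF]; exact fun hd => hrq (hr.dvd_of_dvd_pow hd)
      intro s hs
      exact congrArg Subtype.val (LinearMap.congr_fun (Cfsg.Agent.S2364.eq_one_of_small hr hrF hk
        le_rfl _ (Cfsg.Agent.S2364.restrict_pow_eq hSi hB)) ⟨s, hs⟩)
  -- the flag `S ≤ S^⊥ ≤ V`
  have hSS : 2 * finrank F S ≤ finrank F (orth h S) + finrank F S := by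
    have := Submodule.finrank_mono hSiso
    omega
  have s3 : ∀ x, B x - x ∈ orth h S := by
    intro x s hs
    have h1 := hBh s x
    rw [hfix s hs] at h1
    rw [map_sub, h1, sub_self]
  have hOi : ∀ x ∈ orth h S, B x ∈ orth h S := fun x hx => by
    have := (orth h S).add_mem (s3 x) hx
    simpa using this
  have hdim2 : finrank F (orth h S) ≤ finrank F S + (m - 2) := by
    -- `S^⊥` is proper
    have h1 : orth h S ≠ ⊤ := by
      intro htop
      obtain ⟨s, hs, hs0⟩ := Submodule.exists_mem_ne_zero_of_ne_bot (p := S) (by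
        intro hb
        rw [hb, finrank_bot] at hS0
        omega)
      exact hs0 (hsep s fun y => (show y ∈ orth h S by rw [htop]; trivial) s hs)
    have := Submodule.finrank_lt h1
    omega
  have s2 := sub_mem_of_section (l := m - 2) hF hσ hσ2 hr hrq hno B hB S (orth h S) hSiso hSi hOi
    h hS (fun x hx y hy => hy x hx)
    (fun x _ hx => mem_of_perp_orth h hσ2 hS hsep S hx)
    (fun x _ y _ => hBh x y) hdim2
  have hnil : (B - 1) ^ 3 = 0 := by
    refine LinearMap.ext fun x => ?_
    show (B - 1) ((B - 1) ((B - 1) x)) = 0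
    exact sub_eq_zero.2 (hfix _ (s2 _ (s3 x)))
  have hp : B ^ (p ^ 2) = 1 := by
    have h4 : (B - 1) ^ (p ^ 2) = 0 := pow_eq_zero_of_le (by
      have := (Fact.out : p.Prime).two_le
      nlinarith) hnil
    rw [sub_pow_char_pow_of_commute p 2 (Commute.one_right B), one_pow, sub_eq_zero] at h4
    exact h4
  have := pow_gcd_eq_one.2 ⟨hB, hp⟩
  rwa [Nat.Coprime.pow e 2 ((Nat.coprime_primes hr Fact.out).2 hrp), pow_one] at this

end CfsgLib.USection
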